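import Groth.Agent.H23.TensorDesc
import Groth.Agent.RefX.Lift
import Groth.Agent.RefX.Reflexive
import Groth.Agent.RefX.Dual
import Groth.Agent.KFlatLib.Scheme.PullTensor
import Groth.Agent.SheafHomX.Basic
import Groth.Agent.ZClosLib.Basic
import Groth.Prelude.Def_Algz2

/-!
# Sheaf homomorphisms into an arbitrary module, evaluated on stalks
-/

set_option autoImplicit false
set_option linter.style.haveILetI false
set_option linter.unusedSectionVars false
set_option backward.isDefEq.respectTransparency false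
set_option backward.isDefEq.respectTransparency.types false
set_option maxHeartbeats 1000000

universe u

open CategoryTheory CategoryTheory.Limits AlgebraicGeometry TopologicalSpace Opposite TensorProduct

noncomputable section

namespace Groth.Agent.HodgeSym

open Groth.Agent Groth.Agent.SheafHomX Groth.Agent.H23

variable {X : Scheme.{u}}

theorem stalk_germ {M N : X.Modules} (φ : M ⟶ N) {U : X.Opens} (x : X) (hx : x ∈ U) (m : Γ(M, U)) :
    Algz.stalkMapₗ φ x (M.presheaf.germ U x hx m) = N.presheaf.germ U x hx (φ.app U m) :=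
  TopCat.Presheaf.stalkFunctor_map_germ_apply U x hx φ.mapPresheaf m

theorem stalk_comp {M N P : X.Modules} (φ : M ⟶ N) (ψ : N ⟶ P) (y : X) (v : M.presheaf.stalk y) :
    Algz.stalkMapₗ (φ ≫ ψ) y v = Algz.stalkMapₗ ψ y (Algz.stalkMapₗ φ y v) :=
  congr($((DerSch.stalkFunctor X y).map_comp φ ψ) v)

section StPair

variable {A B C : X.Modules}

/-- A map out of a tensor product as a pairing of stalks. -/
def stPair (φ : (DCoh.tensorBi.obj A).obj B ⟶ C) (x : X) :
    A.presheaf.stalk x →ₗ[X.presheaf.stalk x] B.presheaf.stalk x →ₗ[X.presheaf.stalk x] C.presheaf.stalk x :=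
  TensorProduct.curry ((KFlatLib.stalkTensorIso x A B).hom ≫ (DerSch.stalkFunctor X x).map φ).hom

theorem stPair_germ (φ : (DCoh.tensorBi.obj A).obj B ⟶ C) {U : X.Opens} {x : X} (hx : x ∈ U) (a : Γ(A, U))
    (b : Γ(B, U)) :
    stPair φ x (A.presheaf.germ U x hx a) (B.presheaf.germ U x hx b) =
      C.presheaf.germ U x hx (φ.app U (KFlatLib.tmSh A B a b)) := by
  refine Eq.trans ?_ (DerSch.stalkFunctor_map_germ x φ U hx (KFlatLib.tmSh A B a b))
  exact congrArg ((DerSch.stalkFunctor X x).map φ) (KFlatLib.stalkTensorIso_gm A B U hx a b)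

theorem tensor_hom_ext {φ ψ : (DCoh.tensorBi.obj A).obj B ⟶ C} (h : ∀ x a b, stPair φ x a b = stPair ψ x a b) :
    φ = ψ := by
  refine Scheme.Modules.hom_ext _ _ fun U => ?_
  ext s
  refine ZClosLib.section_ext C _ _ fun x hx => ?_
  have he : (DerSch.stalkFunctor X x).map φ = (DerSch.stalkFunctor X x).map ψ := by
    rw [← cancel_epi (KFlatLib.stalkTensorIso x A B).hom]
    exact ModuleCat.MonoidalCategory.tensor_ext fun a b => h x a b
  have h1 := DerSch.stalkFunctor_map_germ x φ U hx s
  rw [he, DerSch.stalkFunctor_map_germ x ψ U hx s] at h1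
  exact h1.symm

theorem stPair_comp_left {A' : X.Modules} (g : A' ⟶ A) (φ : (DCoh.tensorBi.obj A).obj B ⟶ C) (x : X)
    (a : A'.presheaf.stalk x) (b : B.presheaf.stalk x) :
    stPair ((DCoh.tensorBi.map g).app B ≫ φ) x a b = stPair φ x (Algz.stalkMapₗ g x a) b := by
  have h := congrArg (fun q => q (a ⊗ₜ[X.presheaf.stalk x] b))
    (KFlatLib.stalkTensorIso_naturality (x := x) g (𝟙 B))
  rw [CategoryTheory.Functor.map_id (DCoh.tensorBi.obj A) B, Category.comp_id] at h
  show (DerSch.stalkFunctor X x).map ((DCoh.tensorBi.map g).app B ≫ φ)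
    ((KFlatLib.stalkTensorIso x A' B).hom (a ⊗ₜ b)) = _
  rw [Functor.map_comp]
  refine (congrArg ((DerSch.stalkFunctor X x).map φ) h.symm).trans ?_
  show stPair φ x (Algz.stalkMapₗ g x a) ((DerSch.stalkFunctor X x).map (𝟙 B) b) = _
  rw [CategoryTheory.Functor.map_id]
  rfl

end StPair

variable (E G : X.Modules)

/-- The evaluation of `hom E G`. -/
def counitK : (DCoh.tensorBi.obj ((hom E).obj G)).obj E ⟶ G := (adj E).counit.app G

theorem homEquiv_symm_hom {Z : X.Modules} (g : Z ⟶ (hom E).obj G) :
    ((adj E).homEquiv Z G).symm g = (DCoh.tensorBi.map g).app E ≫ counitK E G :=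
  Adjunction.homEquiv_counit ..

/-- The value of a germ of `hom E G` on a germ. -/
def pairK (x : X) : ((hom E).obj G).presheaf.stalk x →ₗ[X.presheaf.stalk x]
    E.presheaf.stalk x →ₗ[X.presheaf.stalk x] G.presheaf.stalk x :=
  stPair (counitK E G) x

/-- The evaluation of the concrete sheaf of homomorphisms on sections. -/
def evBilinK : TensorDesc.Bilin (RefHull.homSh E G) E G where
  b U θ m := RefX.app le_rfl θ m
  add_left U θ θ' m := ZClosLib.section_ext _ _ _ fun y hy => by
    rw [RefX.germ_app, map_add, RefX.germ_app, RefX.germ_app]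
    rfl
  smul_left U r θ m := ZClosLib.section_ext _ _ _ fun y hy => by
    rw [RefX.germ_app, QCoh.germ_smul', RefX.germ_app]
    rfl
  add_right U θ m m' := RefX.app_add le_rfl θ m m'
  smul_right U r θ m := RefX.app_smul le_rfl θ r m
  res {U V} h θ m := ZClosLib.section_ext _ _ _ fun y hy => by
    rw [TopCat.Presheaf.germ_res_apply, RefX.germ_app, RefX.germ_app, TopCat.Presheaf.germ_res_apply]
    rfl

/-- The evaluation of the concrete sheaf of homomorphisms. -/
def evHullK : (DCoh.tensorBi.obj (RefHull.homSh E G)).obj E ⟶ G :=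
  TensorDesc.desc (evBilinK E G)

theorem evHullK_pair (x : X) (θ : (RefHull.homSh E G).presheaf.stalk x) (e : E.presheaf.stalk x) :
    stPair (evHullK E G) x θ e = RefHull.evalStalk E G x θ e := by
  obtain ⟨U, hU, g, rfl⟩ := (RefHull.homSh E G).presheaf.germ_exist θ
  obtain ⟨V, hV, m, rfl⟩ := E.presheaf.germ_exist e
  have hW : x ∈ U ⊓ V := ⟨hU, hV⟩
  rw [← (RefHull.homSh E G).presheaf.germ_res_apply (homOfLE inf_le_left : U ⊓ V ⟶ U) x hW g,
    ← E.presheaf.germ_res_apply (homOfLE inf_le_right : U ⊓ V ⟶ V) x hW m, stPair_germ, RefHull.evalStalk_germ]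
  refine (congrArg (G.presheaf.germ (U ⊓ V) x hW)
    (TensorDesc.desc_tmul (evBilinK E G) (U ⊓ V) _ _)).trans ?_
  exact RefX.germ_app le_rfl _ _ hW

/-- The comparison with the concrete sheaf of homomorphisms. -/
def fromHullK : RefHull.homSh E G ⟶ (hom E).obj G := (adj E).homEquiv _ _ (evHullK E G)

theorem pairK_fromHullK (x : X) (θ : (RefHull.homSh E G).presheaf.stalk x) :
    pairK E G x (Algz.stalkMapₗ (fromHullK E G) x θ) = RefHull.evalStalk E G x θ := by
  refine LinearMap.ext fun e => ?_
  rw [← evHullK_pair, pairK, ← stPair_comp_left, ← homEquiv_symm_hom, fromHullK, Equiv.symm_apply_apply]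

/-- A section of `hom E G` as a family of homomorphisms. -/
def toHullKFun (U : X.Opens) (z : Γ((hom E).obj G, U)) : Γ(RefHull.homSh E G, U) :=
  ⟨fun y => pairK E G y.1 (((hom E).obj G).presheaf.germ U y.1 y.2 z), fun V i m x =>
    ⟨V, x.2, 𝟙 V, (counitK E G).app V (KFlatLib.tmSh ((hom E).obj G) E (((hom E).obj G).presheaf.map i.op z) m), fun y => by
      refine Eq.trans ?_ (stPair_germ (counitK E G) y.2 (((hom E).obj G).presheaf.map i.op z) m)
      rw [TopCat.Presheaf.germ_res_apply]
      rfl⟩⟩

/-- The comparison of `hom E G` with the concrete sheaf of homomorphisms. -/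
def toHullK : (hom E).obj G ⟶ RefHull.homSh E G :=
  ⟨PresheafOfModules.homMk
    { app := fun U => AddCommGrpCat.ofHom (AddMonoidHom.mk' (toHullKFun E G U.unop) fun z z' =>
        RefX.sect_ext fun y => by
          show pairK E G y.1 _ = pairK E G y.1 _ + pairK E G y.1 _
          rw [map_add, map_add])
      naturality := fun U V i => by
        ext z
        refine RefX.sect_ext fun y => ?_
        show pairK E G y.1 (((hom E).obj G).presheaf.germ V.unop y.1 y.2 (((hom E).obj G).presheaf.map i.unop.op z)) = _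
        rw [TopCat.Presheaf.germ_res_apply]
        rfl }
    fun U r z => RefX.sect_ext fun y => by
      show pairK E G y.1 (((hom E).obj G).presheaf.germ U.unop y.1 y.2 (r • z)) = _
      rw [QCoh.germ_smul', map_smul]
      rfl⟩

theorem evalStalk_toHullK (x : X) (d : ((hom E).obj G).presheaf.stalk x) :
    RefHull.evalStalk E G x (Algz.stalkMapₗ (toHullK E G) x d) = pairK E G x d := by
  obtain ⟨U, hU, z, rfl⟩ := ((hom E).obj G).presheaf.germ_exist d
  rw [stalk_germ, RefHull.evalStalk_germ]
  rfl

theorem toHullK_fromHullK : toHullK E G ≫ fromHullK E G = 𝟙 ((hom E).obj G) := by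
  refine SheafHomX.hom_ext (tensor_hom_ext fun x d e => ?_)
  rw [homEquiv_symm_hom, homEquiv_symm_hom, stPair_comp_left, stPair_comp_left, stalk_comp]
  show pairK E G x _ e = pairK E G x _ e
  rw [pairK_fromHullK, evalStalk_toHullK, show Algz.stalkMapₗ (𝟙 ((hom E).obj G)) x d = d from
    congr($((DerSch.stalkFunctor X x).map_id _) d)]

theorem pairK_injective (hE : CohB1.IsFP E) (x : X) : Function.Injective (pairK E G x) := by
  intro d d' h
  have h' := (RefX.evalStalk_bijective (G := G) hE x).1
    ((evalStalk_toHullK E G x d).trans (h.trans (evalStalk_toHullK E G x d').symm))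
  have key : ∀ e, Algz.stalkMapₗ (fromHullK E G) x (Algz.stalkMapₗ (toHullK E G) x e) = e := fun e => by
    rw [← stalk_comp, toHullK_fromHullK]
    exact congr($((DerSch.stalkFunctor X x).map_id _) e)
  rw [← key d, h', key]

variable {E G}

/-- A pairing, perfect on stalks, identifies the first factor with the sheaf of homomorphisms. -/
theorem nonempty_iso_hom {A : X.Modules} (φ : (DCoh.tensorBi.obj A).obj E ⟶ G) (hE : CohB1.IsFP E)
    (hφ : ∀ x, Function.Bijective (stPair φ x)) : Nonempty (A ≅ (hom E).obj G) := by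
  let ψ : A ⟶ (hom E).obj G := (adj E).homEquiv A G φ
  have key : ∀ x a, pairK E G x (Algz.stalkMapₗ ψ x a) = stPair φ x a := fun x a => by
    refine LinearMap.ext fun e => ?_
    rw [pairK, ← stPair_comp_left, ← homEquiv_symm_hom, Equiv.symm_apply_apply]
  haveI : IsIso ψ := ZClosLib.isIso_of_stalkMap_bijective ψ fun x => by
    show Function.Bijective (Algz.stalkMapₗ ψ x)
    refine ⟨fun a b hab => (hφ x).1 ?_, fun d => ?_⟩
    · rw [← key, ← key, hab]
    · obtain ⟨a, ha⟩ := (hφ x).2 (pairK E G x d)
      exact ⟨a, pairK_injective E G hE x ((key x a).trans ha)⟩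
  exact ⟨asIso ψ⟩

end Groth.Agent.HodgeSym
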