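import Groth.Agent.HodgeSym.Wedge
import Groth.Agent.HodgeSym.HomPair
import Groth.Agent.H28.ExtSh
import Groth.Agent.RefX.Hom

/-!
# The wedge pairing of exterior powers is perfect on stalks
-/

set_option autoImplicit false
set_option linter.style.haveILetI false
set_option linter.unusedSectionVars false
set_option backward.isDefEq.respectTransparency false
set_option backward.isDefEq.respectTransparency.types false
set_option maxHeartbeats 1000000

universe u

open CategoryTheory CategoryTheory.Limits AlgebraicGeometry TopologicalSpace Opposite Set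
open Groth.Agent.AModX Groth.Agent.H28.ExtBase

noncomputable section

namespace Groth.Agent.HodgeSym

open Groth.Agent Groth.Agent.H23

variable {X : Scheme.{u}} {E : X.Modules}

section Lift

variable {m : ℕ} {L : X.Modules} (μ : ∀ V : X.Opens, Γ(E, V) [⋀^Fin m]→ₗ[Γ(X, V)] Γ(L, V))
  (hμ : ∀ V V' (i : V' ≤ V) (e : Fin m → Γ(E, V)), res L i (μ V e) = μ V' (fun k => res E i (e k)))

include hμ in
theorem res_lift {V V' : X.Opens} (i : V' ≤ V) (x : Ext' E m V) :
    res L i (AltGlue.lift μ V x) = AltGlue.lift μ V' (resExt E m i x) := by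
  have h : (res L i).comp (AltGlue.lift μ V).toAddMonoidHom =
      (AltGlue.lift μ V').toAddMonoidHom.comp (resExt E m i) :=
    ext_of_wedge E m fun c e => by
      show res L i (AltGlue.lift μ V (c • H28.ExtBase.wedge E m e)) =
        AltGlue.lift μ V' (resExt E m i (c • H28.ExtBase.wedge E m e))
      rw [LinearMap.map_smul, resExt_smul, LinearMap.map_smul, res_smul, resExt_wedge]
      exact congrArg (resR i c • ·) (((congrArg (res L i) (AltGlue.lift_ιMulti μ V e)).trans (hμ _ _ i e)).trans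
        (AltGlue.lift_ιMulti μ V' _).symm)
  exact DFunLike.congr_fun h x

end Lift

theorem resExt_mul {q p n : ℕ} (h : q + p = n) {V V' : X.Opens} (i : V' ≤ V) (y : Ext' E q V) (x : Ext' E p V) :
    resExt E n i (HodgeSym.wedge (R := Γ(X, V)) (M := E.val.obj (op V)) h y x) =
      HodgeSym.wedge (R := Γ(X, V')) (M := E.val.obj (op V')) h (resExt E q i y) (resExt E p i x) :=
  map_wedge (R := Γ(X, V)) (M := E.val.obj (op V)) (R' := Γ(X, V')) (M' := E.val.obj (op V')) (resR i)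
    (fun e => res E i e) h (resExt E q i) (resExt E p i) (resExt E n i)
    (fun c e => (resExt_smul E q i c _).trans (congrArg (resR i c • ·) (resExt_wedge E q i e)))
    (fun c e => (resExt_smul E p i c _).trans (congrArg (resR i c • ·) (resExt_wedge E p i e)))
    (fun c e => (resExt_smul E n i c _).trans (congrArg (resR i c • ·) (resExt_wedge E n i e))) y x

variable {q p n : ℕ} (h : q + p = n) {A L K : X.Modules}
  (μA : ∀ V : X.Opens, Γ(E, V) [⋀^Fin q]→ₗ[Γ(X, V)] Γ(A, V))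
  (hA : ∀ V V' (i : V' ≤ V) (e : Fin q → Γ(E, V)), res A i (μA V e) = μA V' (fun k => res E i (e k)))
  (bA : ∀ V : X.Opens, IsAffineOpen V → Function.Bijective (AltGlue.lift μA V))
  (μL : ∀ V : X.Opens, Γ(E, V) [⋀^Fin p]→ₗ[Γ(X, V)] Γ(L, V))
  (hL : ∀ V V' (i : V' ≤ V) (e : Fin p → Γ(E, V)), res L i (μL V e) = μL V' (fun k => res E i (e k)))
  (bL : ∀ V : X.Opens, IsAffineOpen V → Function.Bijective (AltGlue.lift μL V))
  (μK : ∀ V : X.Opens, Γ(E, V) [⋀^Fin n]→ₗ[Γ(X, V)] Γ(K, V))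
  (hK : ∀ V V' (i : V' ≤ V) (e : Fin n → Γ(E, V)), res K i (μK V e) = μK V' (fun k => res E i (e k)))
  (bK : ∀ V : X.Opens, IsAffineOpen V → Function.Bijective (AltGlue.lift μK V))

/-- The inverse of a lift on an affine open. -/
abbrev inv' {m : ℕ} {M : X.Modules} (μ : ∀ V : X.Opens, Γ(E, V) [⋀^Fin m]→ₗ[Γ(X, V)] Γ(M, V))
    (b : ∀ V : X.Opens, IsAffineOpen V → Function.Bijective (AltGlue.lift μ V)) (W : X.affineOpens) :
    Γ(M, W.1) ≃ₗ[Γ(X, W.1)] Ext' E m W.1 :=
  (LinearEquiv.ofBijective (AltGlue.lift μ W.1) (b W.1 W.2)).symm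

theorem inv'_res {m : ℕ} {M : X.Modules} (μ : ∀ V : X.Opens, Γ(E, V) [⋀^Fin m]→ₗ[Γ(X, V)] Γ(M, V))
    (hμ : ∀ V V' (i : V' ≤ V) (e : Fin m → Γ(E, V)), res M i (μ V e) = μ V' (fun k => res E i (e k)))
    (b : ∀ V : X.Opens, IsAffineOpen V → Function.Bijective (AltGlue.lift μ V)) {W W' : X.affineOpens}
    (i : W'.1 ≤ W.1) (a : Γ(M, W.1)) : inv' μ b W' (res M i a) = resExt E m i (inv' μ b W a) := by
  obtain ⟨y, rfl⟩ := (b W.1 W.2).2 a
  rw [res_lift μ hμ i y]
  exact ((LinearEquiv.ofBijective _ (b W'.1 W'.2)).symm_apply_apply _).trans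
    (congrArg (resExt E m i) ((LinearEquiv.ofBijective _ (b W.1 W.2)).symm_apply_apply y).symm)

/-- The pairing on an affine open. -/
def aff (W : X.affineOpens) : Γ(A, W.1) →ₗ[Γ(X, W.1)] Γ(L, W.1) →ₗ[Γ(X, W.1)] Γ(K, W.1) :=
  ((HodgeSym.wedge (R := Γ(X, W.1)) (M := E.val.obj (op W.1)) h).compl₁₂
    (inv' μA bA W).toLinearMap (inv' μL bL W).toLinearMap).compr₂ (AltGlue.lift μK W.1)

theorem aff_apply (W : X.affineOpens) (a : Γ(A, W.1)) (l : Γ(L, W.1)) :
    aff h μA bA μL bL μK W a l = AltGlue.lift μK W.1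
      (HodgeSym.wedge (R := Γ(X, W.1)) (M := E.val.obj (op W.1)) h (inv' μA bA W a) (inv' μL bL W l)) := rfl

include hA hL hK in
theorem aff_res {W W' : X.affineOpens} (i : W'.1 ≤ W.1) (a : Γ(A, W.1)) (l : Γ(L, W.1)) :
    res K i (aff h μA bA μL bL μK W a l) = aff h μA bA μL bL μK W' (res A i a) (res L i l) := by
  rw [aff_apply, aff_apply, res_lift μK hK, inv'_res μA hA bA i, inv'_res μL hL bL i]
  exact congrArg (AltGlue.lift μK W'.1) (resExt_mul h i _ _)

include hA hL hK in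
/-- The wedge pairing on all opens. -/
theorem exists_bilin : ∃ β : TensorDesc.Bilin A L K,
    ∀ (W : X.affineOpens) (a : Γ(A, W.1)) (l : Γ(L, W.1)), β.b W.1 a l = aff h μA bA μL bL μK W a l := by
  have hglue : ∀ (U : X.Opens) (a : Γ(A, U)) (l : Γ(L, U)), ∃! t : Γ(K, U),
      ∀ W : {W : X.affineOpens // W.1 ≤ U},
        res K W.2 t = aff h μA bA μL bL μK W.1 (res A W.2 a) (res L W.2 l) := fun U a l =>
    existsUnique_glue (M := K) (fun W : {W : X.affineOpens // W.1 ≤ U} => W.1.1) (fun W => W.2)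
      (fun x hx => by
        obtain ⟨_, ⟨W, hW, rfl⟩, hxW, hWU⟩ := X.isBasis_affineOpens.exists_subset_of_mem_open hx U.2
        exact ⟨⟨⟨W, hW⟩, hWU⟩, hxW⟩) _ fun W W' => eq_of_locally _ _ fun x hx => by
        obtain ⟨_, ⟨C, hC, rfl⟩, hxC, hCWW⟩ := X.isBasis_affineOpens.exists_subset_of_mem_open hx (W.1.1 ⊓ W'.1.1).2
        refine ⟨C, hCWW, hxC, ?_⟩
        rw [res_res, res_res]
        rw [aff_res h μA hA bA μL hL bL μK hK (W := W.1) (W' := ⟨C, hC⟩),
          aff_res h μA hA bA μL hL bL μK hK (W := W'.1) (W' := ⟨C, hC⟩)]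
        simp only [res_res]
  choose t ht _ using hglue
  have hext : ∀ (U : X.Opens) (x y : Γ(K, U)), (∀ W : {W : X.affineOpens // W.1 ≤ U}, res K W.2 x = res K W.2 y) →
      x = y := fun U x y hxy => eq_of_locally x y fun z hz => by
    obtain ⟨_, ⟨W, hW, rfl⟩, hzW, hWU⟩ := X.isBasis_affineOpens.exists_subset_of_mem_open hz U.2
    exact ⟨W, hWU, hzW, hxy ⟨⟨W, hW⟩, hWU⟩⟩
  refine ⟨{
    b := t
    add_left := fun U a a' l => hext U _ _ fun W => by
      rw [map_add, ht, ht, ht, map_add, map_add, LinearMap.add_apply]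
    smul_left := fun U r a l => hext U _ _ fun W => by
      rw [res_smul, ht, ht, res_smul, map_smul, LinearMap.smul_apply]
    add_right := fun U a l l' => hext U _ _ fun W => by
      rw [map_add, ht, ht, ht, map_add, map_add]
    smul_right := fun U r a l => hext U _ _ fun W => by
      rw [res_smul, ht, ht, res_smul, map_smul]
    res := fun {U V} i a l => hext V _ _ fun W => by
      show res K W.2 (res K i (t U a l)) = res K W.2 (t V (res A i a) (res L i l))
      rw [res_res, ht U a l ⟨W.1, W.2.trans i⟩, ht V _ _ W, res_res, res_res] }, fun W a l => ?_⟩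
  have h1 := ht W.1 a l ⟨W, le_rfl⟩
  simp only [res_self] at h1
  exact h1

variable {s : Fin n → Γ(E, (⊤ : X.Opens))}

include h hA bA hL bL hK bK in
/-- The wedge pairing is perfect on stalks wherever `E` is free of rank `n`. -/
theorem exists_iso (hLfp : CohB1.IsFP L)
    (hfr : ∀ x : X, ∃ (U : X.Opens) (s : Fin n → Γ(E, U)), x ∈ U ∧ H23.Frame.IsFrame E s) :
    Nonempty (A ≅ (SheafHomX.hom L).obj K) := by
  obtain ⟨β, hβ⟩ := exists_bilin h μA hA bA μL hL bL μK hK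
  let φ : (DCoh.tensorBi.obj A).obj L ⟶ K := TensorDesc.desc β
  refine nonempty_iso_hom φ hLfp fun x => ?_
  have hst : ∀ {W : X.Opens} (hW : IsAffineOpen W) (hx : x ∈ W) (a : Γ(A, W)) (l : Γ(L, W)),
      stPair φ x (A.presheaf.germ W x hx a) (L.presheaf.germ W x hx l) =
        K.presheaf.germ W x hx (aff h μA bA μL bL μK ⟨W, hW⟩ a l) := fun {W} hW hx a l => by
    rw [stPair_germ]
    exact congrArg (K.presheaf.germ W x hx) ((TensorDesc.desc_tmul β W a l).trans (hβ ⟨W, hW⟩ a l))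
  obtain ⟨U, s, hxU, hs⟩ := hfr x
  -- wedges of the frame
  let eS : ∀ {W : X.Opens}, W ≤ U → powersetCard (Fin n) p → Γ(L, W) := fun {W} i S =>
    AltGlue.lift μL W (H28.ExtSh.wBasis hs i S)
  have heS : ∀ {W W' : X.Opens} (i : W ≤ U) (j : W' ≤ W) (S), res L j (eS i S) = eS (j.trans i) S :=
    fun {W W'} i j S => by
      show res L j (AltGlue.lift μL W _) = AltGlue.lift μL W' _
      rw [res_lift μL hL j, H28.ExtSh.wBasis_apply, H28.ExtSh.wBasis_apply, resExt_wedge]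
      simp only [res_res]
  have hperf : ∀ {W : X.Opens} (i : W ≤ U), Function.Bijective
      (HodgeSym.wedge (R := Γ(X, W)) (M := E.val.obj (op W)) h) := fun {W} i =>
    wedge_bijective h (frameBasis hs i)
  have hinvS : ∀ {W : X.Opens} (hW : IsAffineOpen W) (i : W ≤ U) (S),
      inv' μL bL ⟨W, hW⟩ (eS i S) = H28.ExtSh.wBasis hs i S := fun {W} hW i S =>
    (LinearEquiv.ofBijective _ (bL W hW)).symm_apply_apply _
  have nbhd : ∀ {V : X.Opens}, x ∈ V → ∃ W : X.Opens, IsAffineOpen W ∧ x ∈ W ∧ W ≤ V := fun {V} hV => by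
    obtain ⟨_, ⟨W, hW, rfl⟩, hxW, hWV⟩ := X.isBasis_affineOpens.exists_subset_of_mem_open hV V.2
    exact ⟨W, hW, hxW, hWV⟩
  refine ⟨(injective_iff_map_eq_zero _).2 fun a ha => ?_, fun f => ?_⟩
  · obtain ⟨V, hxV, a, rfl⟩ := A.presheaf.germ_exist a
    obtain ⟨W, hW, hxW, hWle⟩ := nbhd (V := V ⊓ U) ⟨hxV, hxU⟩
    rw [← RefX.germ_res A (hWle.trans inf_le_left) hxW] at ha ⊢
    set a' := res A (hWle.trans inf_le_left) a
    have hS : ∀ S, ∃ W' : X.Opens, ∃ i : W' ≤ W, x ∈ W' ∧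
        res K i (aff h μA bA μL bL μK ⟨W, hW⟩ a' (eS (hWle.trans inf_le_right) S)) = 0 := fun S => by
      have h0 : K.presheaf.germ W x hxW (aff h μA bA μL bL μK ⟨W, hW⟩ a' (eS (hWle.trans inf_le_right) S)) =
          K.presheaf.germ W x hxW 0 := by
        rw [← hst hW hxW, ha, LinearMap.zero_apply, map_zero]
      obtain ⟨W', hxW', i, j, hij⟩ :=
        TopCat.Presheaf.germ_eq (C := AddCommGrpCat.{u}) K.presheaf x hxW hxW _ _ h0
      refine ⟨W', i.le, hxW', ?_⟩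
      change res K i.le _ = res K j.le _ at hij
      rw [hij, map_zero]
    choose W' i hxW' hzero using hS
    let V' : X.Opens := ⟨(W : Set X) ∩ ⋂ S, (W' S : Set X), W.2.inter (isOpen_iInter_of_finite fun S => (W' S).2)⟩
    obtain ⟨W₁, hW₁, hxW₁, hW₁le⟩ := nbhd (V := V') ⟨hxW, Set.mem_iInter.2 hxW'⟩
    have hW₁W : W₁ ≤ W := fun z hz => (hW₁le hz).1
    have hW₁S : ∀ S, W₁ ≤ W' S := fun S z hz => Set.mem_iInter.1 (hW₁le hz).2 S
    have hU₁ : W₁ ≤ U := hW₁W.trans (hWle.trans inf_le_right)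
    have hy : HodgeSym.wedge (R := Γ(X, W₁)) (M := E.val.obj (op W₁)) h (inv' μA bA ⟨W₁, hW₁⟩ (res A hW₁W a')) = 0 := by
      refine (H28.ExtSh.wBasis hs hU₁).ext fun S => (bK W₁ hW₁).1 ?_
      have h1 := congrArg (res K (hW₁S S)) (hzero S)
      rw [res_res, map_zero, aff_res h μA hA bA μL hL bL μK hK (W := ⟨W, hW⟩) (W' := ⟨W₁, hW₁⟩), heS, aff_apply,
        hinvS hW₁ hU₁] at h1
      rw [h1, LinearMap.zero_apply, map_zero]
    have hy' := (hperf hU₁).1 (hy.trans (map_zero _).symm)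
    rw [← RefX.germ_res A hW₁W hxW₁, show res A hW₁W a' = 0 from
      (inv' μA bA ⟨W₁, hW₁⟩).map_eq_zero_iff.1 hy', map_zero]
  · obtain ⟨W₀, hW₀, hxW₀, hW₀U⟩ := nbhd hxU
    have hk : ∀ S, ∃ (V : X.Opens) (hx : x ∈ V) (k : Γ(K, V)),
        K.presheaf.germ V x hx k = f (L.presheaf.germ W₀ x hxW₀ (eS hW₀U S)) := fun S => K.presheaf.germ_exist _
    choose V hxV k hk using hk
    let V' : X.Opens := ⟨(W₀ : Set X) ∩ ⋂ S, (V S : Set X), W₀.2.inter (isOpen_iInter_of_finite fun S => (V S).2)⟩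
    obtain ⟨W, hW, hxW, hWle⟩ := nbhd (V := V') ⟨hxW₀, Set.mem_iInter.2 hxV⟩
    have hWW₀ : W ≤ W₀ := fun z hz => (hWle hz).1
    have hWV : ∀ S, W ≤ V S := fun S z hz => Set.mem_iInter.1 (hWle hz).2 S
    have hWU : W ≤ U := hWW₀.trans hW₀U
    obtain ⟨y, hy⟩ := (hperf hWU).2 ((H28.ExtSh.wBasis hs hWU).constr Γ(X, W)
      fun S => inv' μK bK ⟨W, hW⟩ (res K (hWV S) (k S)))
    let a : Γ(A, W) := AltGlue.lift μA W y
    have haff : ∀ S, aff h μA bA μL bL μK ⟨W, hW⟩ a (eS hWU S) = res K (hWV S) (k S) := fun S => by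
      rw [aff_apply, hinvS hW hWU, show inv' μA bA ⟨W, hW⟩ a = y from
        (LinearEquiv.ofBijective _ (bA W hW)).symm_apply_apply y, hy, Module.Basis.constr_basis]
      exact (LinearEquiv.ofBijective _ (bK W hW)).apply_symm_apply _
    refine ⟨A.presheaf.germ W x hxW a, LinearMap.ext fun l => ?_⟩
    obtain ⟨V₂, hxV₂, l, rfl⟩ := L.presheaf.germ_exist l
    obtain ⟨W₃, hW₃, hxW₃, hW₃le⟩ := nbhd (V := W ⊓ V₂) ⟨hxW, hxV₂⟩
    have h3W : W₃ ≤ W := hW₃le.trans inf_le_left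
    rw [← RefX.germ_res L (hW₃le.trans inf_le_right) hxW₃]
    generalize res L (hW₃le.trans inf_le_right) l = l₃
    obtain ⟨z, rfl⟩ := (bL W₃ hW₃).2 l₃
    rw [← (H28.ExtSh.wBasis hs (h3W.trans hWU)).sum_repr z, map_sum, map_sum, map_sum, map_sum]
    refine Finset.sum_congr rfl fun S _ => ?_
    rw [map_smul]
    refine (congrArg (stPair φ x (A.presheaf.germ W x hxW a)) (QCoh.germ_smul' L hxW₃ _ _)).trans ?_
    refine Eq.trans ?_ (congrArg f (QCoh.germ_smul' L hxW₃ _ _)).symm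
    rw [map_smul, map_smul]
    congr 1
    show stPair φ x (A.presheaf.germ W x hxW a) (L.presheaf.germ W₃ x hxW₃ (eS (h3W.trans hWU) S)) =
      f (L.presheaf.germ W₃ x hxW₃ (eS (h3W.trans hWU) S))
    rw [← heS hWU h3W, RefX.germ_res L h3W hxW₃, hst hW hxW, haff, RefX.germ_res K (hWV S) hxW, hk,
      ← heS hW₀U hWW₀, RefX.germ_res L hWW₀ hxW]

end Groth.Agent.HodgeSym
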