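import Mathlib

/-!
# The wedge pairing of exterior powers of a free module is perfect
-/

set_option autoImplicit false

universe u v

noncomputable section

namespace Groth.Agent.HodgeSym

open Module Set Set.powersetCard

variable {R : Type u} [CommRing R] {M : Type v} [AddCommGroup M] [Module R M]

/-- The product `⋀^q M × ⋀^p M → ⋀^n M`, for `q + p = n`. -/
def wedge {q p n : ℕ} (h : q + p = n) : ↥(⋀[R]^q M) →ₗ[R] ↥(⋀[R]^p M) →ₗ[R] ↥(⋀[R]^n M) :=
  LinearMap.mk₂ R
    (fun y x => ⟨(y : ExteriorAlgebra R M) * (x : ExteriorAlgebra R M),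
      h ▸ SetLike.mul_mem_graded (A := fun i => ⋀[R]^i M) y.2 x.2⟩)
    (fun a b c => Subtype.ext (add_mul _ _ _))
    (fun r a c => Subtype.ext (smul_mul_assoc r (a : ExteriorAlgebra R M) (c : ExteriorAlgebra R M)))
    (fun a b c => Subtype.ext (mul_add _ _ _))
    (fun r a c => Subtype.ext (mul_smul_comm r (a : ExteriorAlgebra R M) (c : ExteriorAlgebra R M)))

theorem coe_wedge {q p n : ℕ} (h : q + p = n) (y : ↥(⋀[R]^q M)) (x : ↥(⋀[R]^p M)) :
    (wedge h y x : ExteriorAlgebra R M) = (y : ExteriorAlgebra R M) * (x : ExteriorAlgebra R M) := rfl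

theorem wedge_ιMulti {q p n : ℕ} (h : q + p = n) (e : Fin q → M) (e' : Fin p → M) :
    wedge h (exteriorPower.ιMulti R q e) (exteriorPower.ιMulti R p e') =
      exteriorPower.ιMulti R n (Fin.append e e' ∘ Fin.cast h.symm) := by
  subst h
  refine Subtype.ext ?_
  rw [coe_wedge, exteriorPower.ιMulti_apply_coe, exteriorPower.ιMulti_apply_coe, exteriorPower.ιMulti_apply_coe,
    ExteriorAlgebra.ιMulti_apply, ExteriorAlgebra.ιMulti_apply, ExteriorAlgebra.ιMulti_apply, ← List.prod_append,
    ← List.ofFn_fin_append]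
  congr 2
  funext i
  induction i using Fin.addCases <;> simp

/-- Two additive maps on an exterior power agreeing on multiples of decomposable elements agree. -/
theorem ext_ιMulti {m : ℕ} {A : Type*} [AddCommGroup A] {f g : ↥(⋀[R]^m M) →+ A}
    (hfg : ∀ (c : R) (e : Fin m → M), f (c • exteriorPower.ιMulti R m e) = g (c • exteriorPower.ιMulti R m e)) :
    f = g := by
  refine AddMonoidHom.ext fun x => ?_
  have hx : x ∈ Submodule.span R (Set.range (exteriorPower.ιMulti R m (M := M))) := by
    rw [exteriorPower.ιMulti_span]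
    trivial
  rw [Submodule.mem_span_set'] at hx
  obtain ⟨N, c, g', rfl⟩ := hx
  simp only [map_sum]
  refine Finset.sum_congr rfl fun j _ => ?_
  obtain ⟨e, he⟩ := (g' j).2
  rw [← he]
  exact hfg _ _

/-- The wedge commutes with a semilinear change of rings. -/
theorem map_wedge {R' : Type u} [CommRing R'] {M' : Type v} [AddCommGroup M'] [Module R' M'] (σ : R →+* R')
    (f : M → M') {q p n : ℕ} (h : q + p = n) (Fq : ↥(⋀[R]^q M) →+ ↥(⋀[R']^q M'))
    (Fp : ↥(⋀[R]^p M) →+ ↥(⋀[R']^p M')) (Fn : ↥(⋀[R]^n M) →+ ↥(⋀[R']^n M'))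
    (hq : ∀ c e, Fq (c • exteriorPower.ιMulti R q e) = σ c • exteriorPower.ιMulti R' q (fun k => f (e k)))
    (hp : ∀ c e, Fp (c • exteriorPower.ιMulti R p e) = σ c • exteriorPower.ιMulti R' p (fun k => f (e k)))
    (hn : ∀ c e, Fn (c • exteriorPower.ιMulti R n e) = σ c • exteriorPower.ιMulti R' n (fun k => f (e k)))
    (y : ↥(⋀[R]^q M)) (x : ↥(⋀[R]^p M)) : Fn (wedge h y x) = wedge h (Fq y) (Fp x) := by
  have h1 : ∀ (c : R) (e : Fin q → M) (x : ↥(⋀[R]^p M)), Fn (wedge h (c • exteriorPower.ιMulti R q e) x) =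
      wedge h (Fq (c • exteriorPower.ιMulti R q e)) (Fp x) := fun c e x => by
    refine DFunLike.congr_fun (f := Fn.comp (wedge h (c • exteriorPower.ιMulti R q e)).toAddMonoidHom)
      (g := (wedge h (Fq (c • exteriorPower.ιMulti R q e))).toAddMonoidHom.comp Fp) (ext_ιMulti fun c' e' => ?_) x
    show Fn (wedge h (c • exteriorPower.ιMulti R q e) (c' • exteriorPower.ιMulti R p e')) =
      wedge h (Fq (c • exteriorPower.ιMulti R q e)) (Fp (c' • exteriorPower.ιMulti R p e'))
    rw [hq, hp]
    simp only [LinearMap.map_smul, LinearMap.smul_apply, wedge_ιMulti, smul_smul]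
    rw [hn, map_mul]
    congr 2
    funext k
    simp only [Function.comp_apply]
    generalize Fin.cast h.symm k = j
    induction j using Fin.addCases <;> simp
  exact DFunLike.congr_fun (f := Fn.comp ((wedge h).flip x).toAddMonoidHom)
    (g := ((wedge h).flip (Fp x)).toAddMonoidHom.comp Fq) (ext_ιMulti fun c e => h1 c e x) y

variable {q p n : ℕ} (h : q + p = n) (b : Basis (Fin n) R M)

include h in
theorem card_compl (s : powersetCard (Fin n) q) : (s.val)ᶜ.card = p := by
  rw [Finset.card_compl, Fintype.card_fin]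
  have := s.2
  simp only [Set.powersetCard.mem_iff] at this
  omega

/-- The complementary subset. -/
def cpl (s : powersetCard (Fin n) q) : powersetCard (Fin n) p := ofCard (card_compl h s)

theorem wedge_basis_compl (s : powersetCard (Fin n) q) :
    ∃ ε : ℤˣ, ∀ t : powersetCard (Fin n) n,
      wedge h (b.exteriorPower q s) (b.exteriorPower p (cpl h s)) = ε • b.exteriorPower n t := by
  have hd : Disjoint s.val (cpl h s).val := disjoint_compl_right
  refine ⟨(permOfDisjoint hd).sign, fun t => Subtype.ext ?_⟩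
  rw [coe_wedge, ← ExteriorAlgebra.basis_eq_coe_basis, ← ExteriorAlgebra.basis_eq_coe_basis,
    ExteriorAlgebra.basis_mul_of_disjoint b s (cpl h s) hd]
  rw [Submodule.coe_smul_of_tower, ← ExteriorAlgebra.basis_eq_coe_basis]
  congr 1
  congr 1
  have ht : t.val = Finset.univ := Finset.eq_univ_of_card _ (by rw [Fintype.card_fin]; exact t.2)
  rw [ht]
  rw [Set.powersetCard.coe_disjUnion, Finset.disjUnion_eq_union]
  exact Finset.union_compl s.val

theorem wedge_basis_of_ne (s : powersetCard (Fin n) q) (t : powersetCard (Fin n) p) (hne : t ≠ cpl h s) :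
    wedge h (b.exteriorPower q s) (b.exteriorPower p t) = 0 := by
  refine Subtype.ext ?_
  rw [coe_wedge, ← ExteriorAlgebra.basis_eq_coe_basis, ← ExteriorAlgebra.basis_eq_coe_basis,
    ExteriorAlgebra.basis_mul_of_not_disjoint b s t]
  · rfl
  intro hd
  refine hne (Subtype.ext ?_)
  show t.val = s.valᶜ
  refine Finset.eq_of_subset_of_card_le ?_ ?_
  · intro i hi
    exact Finset.mem_compl.2 fun hs => Finset.disjoint_left.1 hd hs hi
  · rw [card_compl h s]
    exact le_of_eq t.2.symm

include b in
/-- The wedge pairing of a free module of rank `n` is perfect. -/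
theorem wedge_bijective : Function.Bijective (wedge (R := R) (M := M) h) := by
  classical
  let t₀ : powersetCard (Fin n) n := ⟨Finset.univ, by simp [Set.powersetCard.mem_iff]⟩
  haveI : Unique (powersetCard (Fin n) n) :=
    { default := t₀
      uniq := fun t => Subtype.ext (Finset.eq_univ_of_card _ (by rw [Fintype.card_fin]; exact t.2)) }
  choose ε hε using fun s => wedge_basis_compl h b s
  have key : ∀ (y : ↥(⋀[R]^q M)) (s : powersetCard (Fin n) q),
      (b.exteriorPower n).repr (wedge h y (b.exteriorPower p (cpl h s))) t₀ =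
        ((ε s : ℤ) : R) * (b.exteriorPower q).repr y s := by
    intro y s
    conv_lhs => rw [← (b.exteriorPower q).sum_repr y]
    rw [map_sum, LinearMap.sum_apply, map_sum, Finsupp.finsetSum_apply, Finset.sum_eq_single s]
    · rw [map_smul, LinearMap.smul_apply, hε s t₀, map_smul, Units.smul_def, map_zsmul]
      simp [mul_comm]
    · intro s' _ hs'
      rw [map_smul, LinearMap.smul_apply, wedge_basis_of_ne h b s' (cpl h s)]
      · simp
      · intro hc
        refine hs' (Subtype.ext ?_)
        have := congrArg (fun v : powersetCard (Fin n) p => v.val) hc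
        exact (compl_inj_iff.1 this).symm
    · intro hs; exact absurd (Finset.mem_univ s) hs
  have hsq : ∀ s, ((ε s : ℤ) : R) * ((ε s : ℤ) : R) = 1 := fun s => by
    rw [← Int.cast_mul, ← Units.val_mul, Int.units_mul_self]; simp
  refine ⟨(injective_iff_map_eq_zero _).2 fun y hy => ?_, fun f => ?_⟩
  · refine (b.exteriorPower q).ext_elem fun s => ?_
    have := key y s
    rw [hy, LinearMap.zero_apply, map_zero, Finsupp.zero_apply] at this
    rw [map_zero, Finsupp.zero_apply, ← one_mul ((b.exteriorPower q).repr y s), ← hsq s, mul_assoc, ← this, mul_zero]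
  · refine ⟨∑ s, (((ε s : ℤ) : R) * (b.exteriorPower n).repr (f (b.exteriorPower p (cpl h s))) t₀) •
      b.exteriorPower q s, ?_⟩
    refine (b.exteriorPower p).ext fun t => (b.exteriorPower n).ext_elem fun u => ?_
    obtain rfl : u = t₀ := Subsingleton.elim _ _
    have hqp : p + q = n := by omega
    have ht : cpl h (cpl hqp t) = t := Subtype.ext (compl_compl t.val)
    rw [← ht, key, map_sum, Finsupp.finsetSum_apply, Finset.sum_eq_single (cpl hqp t)]
    · rw [map_smul, Finsupp.smul_apply, Basis.repr_self, Finsupp.single_eq_same, smul_eq_mul, mul_one,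
        ← mul_assoc, hsq, one_mul]
    · intro s' _ hs'
      rw [map_smul, Finsupp.smul_apply, Basis.repr_self, Finsupp.single_eq_of_ne hs'.symm, smul_zero]
    · intro hs; exact absurd (Finset.mem_univ _) hs

end Groth.Agent.HodgeSym
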